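import Groth.Agent.H98K0Nil.Supp
import Groth.Agent.EGA73.Tensor
import Groth.Agent.Mod48.Tot
import Groth.Agent.DCK91.StalkTensorNat
import Groth.Agent.ZClos93.Exact
import Groth.Agent.Amp73.CounitIff

/-! Tensoring with a bundle minus its rank is nilpotent on `K₀` of coherent modules. -/

set_option autoImplicit false
set_option maxHeartbeats 400000
set_option linter.overlappingInstances false
set_option backward.isDefEq.respectTransparency.types false

noncomputable section

universe u

open CategoryTheory CategoryTheory.Limits AlgebraicGeometry TopologicalSpace MonoidalCategory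

namespace Groth.Agent.H98K0Nil

open Dev46 QC70

variable {X : Scheme.{u}}

theorem support_tensor_subset (V M : X.Modules) :
    CohB1.support ((DCoh.tensorBi.obj V).obj M) ⊆ CohB1.support M := fun x hx h => by
  refine hx ?_
  haveI : Subsingleton ((DCK91.SP x).obj M) := h
  haveI : Subsingleton (((curriedTensor (ModuleCat.{u} (X.presheaf.stalk x))).obj ((DCK91.SP x).obj V)).obj
      ((DCK91.SP x).obj M)) := by
    refine subsingleton_of_forall_eq 0 fun z => ?_
    induction z using TensorProduct.induction_on with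
    | zero => rfl
    | tmul a b => rw [Subsingleton.elim b 0, TensorProduct.tmul_zero]
    | add a b ha hb => rw [ha, hb, add_zero]
  exact (asIso (DCK91.tensorStalk x V M)).toLinearEquiv.symm.toEquiv.subsingleton

/-- `O^r ⊗ M = M^r`. -/
theorem nonempty_free_tensor_iso (r : ℕ) (M : X.Modules) :
    Nonempty (CohB1.tensorMod (FlatMod.freeMod X r) M ≅ ⨁ fun _ : Fin r => M) := by
  haveI : ((DCoh.tensorBi (X := X)).flip.obj M).Additive :=
    Mod48.additive_tensorBi_flip_obj (O := X.sheaf) M
  haveI : PreservesBiproduct (fun _ : Fin r => Coh.structureModule X) ((DCoh.tensorBi (X := X)).flip.obj M) :=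
    inferInstance
  exact ⟨((DCoh.tensorBi (X := X)).flip.obj M).mapIso (biproduct.isoCoproduct fun _ : Fin r => Coh.structureModule X).symm ≪≫
    ((DCoh.tensorBi (X := X)).flip.obj M).mapBiproduct _ ≪≫
    biproduct.mapIso fun _ => EGA73.tensUnitLeft M⟩

theorem nonempty_restrict_iso {r : ℕ} (V M : X.Modules) (U : X.Opens)
    (e : V.restrict U.ι ≅ FlatMod.freeMod U r) :
    Nonempty (((DCoh.tensorBi.obj V).obj M).restrict U.ι ≅ (⨁ fun _ : Fin r => M).restrict U.ι) := by
  obtain ⟨e1⟩ := nonempty_free_tensor_iso r (M.restrict U.ι)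
  haveI : PreservesColimitsOfSize.{0, 0} (Scheme.Modules.restrictFunctor U.ι) :=
    (Scheme.Modules.restrictAdjunction U.ι).leftAdjoint_preservesColimits
  haveI := Limits.preservesBinaryBiproducts_of_preservesBinaryCoproducts
    (Scheme.Modules.restrictFunctor U.ι)
  haveI : (Scheme.Modules.restrictFunctor U.ι).Additive := Functor.additive_of_preservesBinaryBiproducts _
  haveI : PreservesBiproduct (fun _ : Fin r => M) (Scheme.Modules.restrictFunctor U.ι) := inferInstance
  exact ⟨(EGA73.tensorRestrictIso U.ι V M).symm ≪≫ EGA73.tensIso e (Iso.refl _) ≪≫ e1 ≪≫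
    ((Scheme.Modules.restrictFunctor U.ι).mapBiproduct fun _ : Fin r => M).symm⟩

variable [IsNoetherian X]

theorem clSub_biproduct {M : X.Modules} (hM : Coh.IsCoh M) : ∀ r : ℕ,
    Coh.IsCoh (⨁ fun _ : Fin r => M) ∧
      KZero.clSub (cohP X) (⨁ fun _ : Fin r => M) = r • KZero.clSub (cohP X) M
  | 0 => by
    have hz : IsZero (⨁ fun _ : Fin 0 => M) := by
      rw [IsZero.iff_id_eq_zero]; exact biproduct.hom_ext _ _ fun i => i.elim0
    have hc := QC70.isCoh_of_isZero hz
    haveI := hc.1
    haveI := hc.2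
    have hsupp : CohB1.support (⨁ fun _ : Fin 0 => M) ⊆ (∅ : Set X) := fun x hx => by
      exact absurd hx (QC70.notMem_support_iff.2 (ModuleCat.subsingleton_of_isZero ((DCK91.SP x).map_isZero hz)))
    have h := clSub_mem_supSub hc hsupp
    rw [supSub_empty, AddSubgroup.mem_bot] at h
    exact ⟨hc, by rw [h, zero_smul]⟩
  | r + 1 => by
    obtain ⟨hc, hcl⟩ := clSub_biproduct hM r
    have hS := QC70.consSC_shortExact fun _ : Fin (r + 1) => M
    have hc' : Coh.IsCoh (⨁ fun _ : Fin (r + 1) => M) := QC70.isCoh_X₂ _ hS hM hc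
    refine ⟨hc', ?_⟩
    refine (KDer46.clSub_add (P := cohP X) _ hS hM hc' hc).trans ?_
    show KZero.clSub (cohP X) M + KZero.clSub (cohP X) (⨁ fun _ : Fin r => M) = _
    rw [hcl, succ_nsmul, add_comm]

theorem support_biproduct (M : X.Modules) (r : ℕ) :
    CohB1.support (⨁ fun _ : Fin r => M) ⊆ CohB1.support M :=
  (QC70.support_biproduct_subset fun _ : Fin r => M).trans (Set.iUnion_subset fun _ => subset_rfl)

theorem nilpotent (r : ℕ) (V : X.Modules) (hV : FlatMod.IsFinLocFreeOfRank r V)
    [((DCoh.tensorBi (X := X)).obj V).Additive] [PreservesFiniteLimits ((DCoh.tensorBi (X := X)).obj V)]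
    [PreservesFiniteColimits ((DCoh.tensorBi (X := X)).obj V)]
    (hVc : ∀ M : X.Modules, Coh.IsCoh M → Coh.IsCoh (((DCoh.tensorBi (X := X)).obj V).obj M)) :
    ∃ n : ℕ, ∀ y : SGA6.Kcoh X,
      (⇑(SGA6.mapSub ((DCoh.tensorBi (X := X)).obj V) (fun M : X.Modules => Coh.IsCoh M) (fun M : X.Modules => Coh.IsCoh M) hVc -
        r • AddMonoidHom.id (SGA6.Kcoh X)))^[n] y = 0 := by
  classical
  choose U hxU hU using hV
  obtain ⟨t, ht⟩ := isCompact_univ.elim_finite_subcover (fun x : X => (U x : Set X)) (fun x => (U x).2)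
    (fun x _ => Set.mem_iUnion.2 ⟨x, hxU x⟩)
  set T := SGA6.mapSub ((DCoh.tensorBi (X := X)).obj V) (fun M : X.Modules => Coh.IsCoh M) (fun M : X.Modules => Coh.IsCoh M) hVc -
    r • AddMonoidHom.id (SGA6.Kcoh X) with hT
  let Z : List X → Set X := fun l => (⋃ x ∈ l, (U x : Set X))ᶜ
  have step : ∀ (x : X) (S : Set X), supSub S ≤ (supSub (S ∩ (U x : Set X)ᶜ)).comap T := by
    intro x S
    refine (AddSubgroup.closure_le _).mpr ?_
    rintro _ ⟨M, ⟨hM, hMS⟩, rfl⟩
    obtain ⟨e⟩ := hU x
    obtain ⟨e'⟩ := nonempty_restrict_iso V M (U x) e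
    obtain ⟨hc, hcl⟩ := clSub_biproduct hM r
    show T (KZero.clSub (cohP X) M) ∈ supSub (S ∩ (U x : Set X)ᶜ)
    have hval : T (KZero.clSub (cohP X) M) =
        KZero.clSub (cohP X) (((DCoh.tensorBi (X := X)).obj V).obj M) -
          KZero.clSub (cohP X) (⨁ fun _ : Fin r => M) := by
      rw [hcl, hT]
      refine congrArg (fun a : KZero.K0sub (cohP X) => a - r • KZero.clSub (cohP X) M) ?_
      exact KLoc46.mapSub_clSub _ _ _ hVc hM
    rw [hval]
    haveI : PreservesFiniteLimits (Scheme.Modules.restrictFunctor (U x).ι) :=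
      ZClos93.preservesFiniteLimits_restrictFunctor _
    have h := clSub_sub_mem_of_iso (U x).ι (fun N hN => Amp73.isCoh_restrict hN (U x)) (hVc M hM) hc
      ((support_tensor_subset V M).trans hMS) ((support_biproduct M r).trans hMS) e'
    rwa [show Set.range (U x).ι = (U x : Set X) from (U x).range_ι] at h
  have iter : ∀ (l : List X) (y : SGA6.Kcoh X), (⇑T)^[l.length] y ∈ supSub (Z l) := by
    intro l
    induction l with
    | nil =>
      intro y
      simp only [List.length_nil, Function.iterate_zero, id_eq]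
      obtain ⟨z, rfl⟩ := QuotientAddGroup.mk_surjective y
      induction z using FreeAbelianGroup.induction_on with
      | zero => exact zero_mem _
      | of M =>
        change (QuotientAddGroup.mk (FreeAbelianGroup.of M) : KZero.K0sub (cohP X)) ∈ _
        have := clSub_mem_supSub (S := Z []) M.2 (fun z _ => by simp [Z])
        rwa [KDer46.clSub_eq M.2] at this
      | neg M h => exact neg_mem h
      | add a b ha hb => exact add_mem ha hb
    | cons x l ih =>
      intro y
      rw [List.length_cons, Function.iterate_succ_apply']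
      refine supSub_mono (S := Z l ∩ (U x : Set X)ᶜ) ?_ (step x (Z l) (ih y))
      intro z hz
      simp only [Z, Set.mem_compl_iff, Set.mem_iUnion, List.mem_cons, not_exists, Set.mem_inter_iff] at hz ⊢
      rintro a (rfl | ha)
      · exact hz.2
      · exact hz.1 a ha
  refine ⟨t.toList.length, fun y => ?_⟩
  have h := supSub_mono (T := (∅ : Set X)) (S := Z t.toList) (fun z hz => by
    obtain ⟨x, hx, hzx⟩ := Set.mem_iUnion₂.mp (ht (Set.mem_univ z))
    exact hz (Set.mem_iUnion₂.mpr ⟨x, Finset.mem_toList.mpr hx, hzx⟩)) (iter t.toList y)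
  rwa [supSub_empty, AddSubgroup.mem_bot] at h

end Groth.Agent.H98K0Nil

end
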