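import Groth.Agent.KLoc46.Seq
import Groth.Agent.CohSerre72.Basic

/-! Classes of coherent modules isomorphic on an open, with control of the supports. -/

set_option autoImplicit false
set_option maxHeartbeats 400000
set_option linter.overlappingInstances false
set_option backward.isDefEq.respectTransparency.types false

noncomputable section

universe u

open CategoryTheory CategoryTheory.Limits AlgebraicGeometry TopologicalSpace

namespace Groth.Agent.H98K0Nil

open Dev46 QC70

variable {X U : Scheme.{u}} [IsNoetherian X] (j : U ⟶ X) [IsOpenImmersion j]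

/-- Classes of coherent modules supported in `S`. -/
def supSub (S : Set X) : AddSubgroup (KZero.K0sub (cohP X)) :=
  AddSubgroup.closure ((fun M => KZero.clSub (cohP X) M) '' {M | Coh.IsCoh M ∧ CohB1.support M ⊆ S})

theorem clSub_mem_supSub {S : Set X} {M : X.Modules} (hM : Coh.IsCoh M) (hs : CohB1.support M ⊆ S) :
    KZero.clSub (cohP X) M ∈ supSub S :=
  AddSubgroup.subset_closure ⟨M, ⟨hM, hs⟩, rfl⟩

theorem supSub_mono {S T : Set X} (h : S ⊆ T) : supSub S ≤ supSub T :=
  AddSubgroup.closure_mono (Set.image_mono fun _ hM => ⟨hM.1, hM.2.trans h⟩)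

theorem supSub_empty : supSub (∅ : Set X) = ⊥ := by
  refine eq_bot_iff.mpr ((AddSubgroup.closure_le _).mpr ?_)
  rintro _ ⟨M, ⟨hM, hs⟩, rfl⟩
  haveI := hM.1
  have hz : IsZero M := QC70.isZero_of_support_eq_empty (Set.subset_empty_iff.mp hs)
  have hS : (ShortComplex.mk (0 : M ⟶ M) (𝟙 M) (by simp)).ShortExact :=
    ShortComplex.Splitting.shortExact
      { r := 0, s := 𝟙 M, f_r := hz.eq_of_src _ _, s_g := by simp, id := by simp }
  have h := KDer46.clSub_add (P := cohP X) _ hS hM hM hM
  exact (left_eq_add.mp h)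

variable {j}

theorem clSub_sub_mem {A B : X.Modules} {S : Set X} (φ : A ⟶ B) (hA : Coh.IsCoh A) (hB : Coh.IsCoh B)
    (hAS : CohB1.support A ⊆ S) (hBS : CohB1.support B ⊆ S)
    [IsIso ((Scheme.Modules.restrictFunctor j).map φ)] :
    KZero.clSub (cohP X) A - KZero.clSub (cohP X) B ∈ supSub (S ∩ (Set.range j)ᶜ) := by
  obtain ⟨h₁, h₂, h₃⟩ := prop_image (Q := cohP X) φ hA hB
  have hb : ∀ v : U, Function.Bijective (stalkMapM φ (j v)) := fun v =>
    (bijective_stalkMapM_restrict_iff j φ v).1 (bijective_stalkMapM_of_isIso ((Scheme.Modules.restrictFunctor j).map φ) v)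
  have hk : CohB1.support (kernel φ) ⊆ (Set.range j)ᶜ := by
    rintro _ hx ⟨v, rfl⟩
    refine hx (subsingleton_of_forall_eq 0 fun e => ?_)
    have key : ∀ c, stalkMapM φ (j v) (stalkMapM (kernel.ι φ) (j v) c) = 0 := fun c => by
      obtain ⟨W, hW, s, rfl⟩ := germM_exist c
      rw [← stalkMapM_comp, kernel.condition, stalkMapM_germ]
      exact (congrArg (germM B W (j v) hW) (by rfl : (0 : kernel φ ⟶ B).app W s = 0)).trans
        (germM_zero hW)
    exact injective_stalkMapM_of_mono (kernel.ι φ) (j v) ((hb v).1 ((key e).trans (key 0).symm))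
  have hc : CohB1.support (cokernel φ) ⊆ (Set.range j)ᶜ := by
    rintro _ hx ⟨v, rfl⟩
    exact hx (subsingleton_stalk_cokernel φ _ (hb v).2)
  have e₁ : KZero.clSub (cohP X) A = KZero.clSub (cohP X) (kernel φ) +
      KZero.clSub (cohP X) (kernel (cokernel.π φ)) :=
    KDer46.clSub_add _ (shortExact_ker φ) h₁ hA h₂
  have e₂ : KZero.clSub (cohP X) B = KZero.clSub (cohP X) (kernel (cokernel.π φ)) +
      KZero.clSub (cohP X) (cokernel φ) :=
    KDer46.clSub_add _ (shortExact_coker φ) h₂ hB h₃
  rw [e₁, e₂]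
  convert (supSub (S ∩ (Set.range j)ᶜ)).sub_mem
    (clSub_mem_supSub h₁ (Set.subset_inter ((mem_support_of_mono (kernel.ι φ)).trans hAS) hk))
    (clSub_mem_supSub h₃ (Set.subset_inter ((mem_support_of_epi (cokernel.π φ)).trans hBS) hc)) using 1
  abel

variable (j) [PreservesFiniteLimits (Scheme.Modules.restrictFunctor j)]

theorem clSub_sub_mem_of_iso (hj : ∀ M : X.Modules, Coh.IsCoh M → Coh.IsCoh ((Scheme.Modules.restrictFunctor j).obj M))
    {G G' : X.Modules} {S : Set X} (hG : Coh.IsCoh G) (hG' : Coh.IsCoh G')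
    (hGS : CohB1.support G ⊆ S) (hGS' : CohB1.support G' ⊆ S)
    (e : (Scheme.Modules.restrictFunctor j).obj G ≅ (Scheme.Modules.restrictFunctor j).obj G') :
    KZero.clSub (cohP X) G - KZero.clSub (cohP X) G' ∈ supSub (S ∩ (Set.range j)ᶜ) := by
  let adj := Scheme.Modules.restrictAdjunction j
  let f : G ⟶ (Scheme.Modules.pushforward j).obj ((Scheme.Modules.restrictFunctor j).obj G') :=
    adj.unit.app G ≫ (Scheme.Modules.pushforward j).map e.hom
  let g : G' ⟶ (Scheme.Modules.pushforward j).obj ((Scheme.Modules.restrictFunctor j).obj G') := adj.unit.app G'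
  haveI := (hj G' hG').1
  have hq : Coh.IsQCoh ((Scheme.Modules.pushforward j).obj ((Scheme.Modules.restrictFunctor j).obj G')) :=
    QCqs72.isQuasicoherent_pushforward (M := (Scheme.Modules.restrictFunctor j).obj G') j
  let σ := ShortComplex.Splitting.ofHasBinaryBiproduct G G'
  have hb : Coh.IsCoh (G ⊞ G') := QC70.isCoh_X₂ _ σ.shortExact hG hG'
  have hbS : CohB1.support (G ⊞ G') ⊆ S :=
    (CohSerre72.support_X₂ _ σ.shortExact).le.trans (Set.union_subset hGS hGS')
  let eP := IsLimit.conePointUniqueUpToIso (kernelIsKernel (biprod.desc f (-g)))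
      (Abelian.PullbackToBiproductIsKernel.isLimitPullbackToBiproduct f g)
  have hP : Coh.IsCoh (pullback f g) := QC70.isCoh_of_iso eP (QC70.isCoh_kernel _ hb hq)
  have hPS : CohB1.support (pullback f g) ⊆ S :=
    ((mem_support_of_mono (M := pullback f g) (N := kernel (biprod.desc f (-g))) eP.inv).trans
      (mem_support_of_mono (M := kernel (biprod.desc f (-g))) (N := G ⊞ G') (kernel.ι _))).trans hbS
  have hg : IsIso ((Scheme.Modules.restrictFunctor j).map g) := KLoc46.isIso_map_unit j G'
  have hf : IsIso ((Scheme.Modules.restrictFunctor j).map f) := by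
    haveI := KLoc46.isIso_map_unit j G
    rw [Functor.map_comp]
    infer_instance
  have hsq := (IsPullback.of_hasPullback f g).map (Scheme.Modules.restrictFunctor j)
  haveI : IsIso ((Scheme.Modules.restrictFunctor j).map (pullback.fst f g)) := hsq.isIso_fst_of_isIso
  haveI : IsIso ((Scheme.Modules.restrictFunctor j).map (pullback.snd f g)) := hsq.isIso_snd_of_isIso
  have h₁ := clSub_sub_mem (j := j) (pullback.fst f g) hP hG hPS hGS
  have h₂ := clSub_sub_mem (j := j) (pullback.snd f g) hP hG' hPS hGS'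
  convert (supSub (S ∩ (Set.range j)ᶜ)).sub_mem h₂ h₁ using 1
  abel

end Groth.Agent.H98K0Nil

end
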